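import Cfsg.Agent.H10.Fi22T.F7.RChk0
import Cfsg.Agent.H10.Fi22T.F7.RChk1
import Cfsg.Agent.H10.Fi22T.F7.RChk2

set_option autoImplicit false
set_option linter.all false

namespace Cfsg.Agent.H10.Fi22T

open Cfsg.Agent.H35 Cfsg.Spor

theorem f7_rall : ∀ p, p < 4306 → f7_rf p = true := by
  apply allR_blocks f7_rf 4306 10 5 _ (by decide)
  intro k hk
  interval_cases k
  · exact f7_rchk_0
  · exact f7_rchk_1
  · exact f7_rchk_2
  · exact f7_rchk_3
  · exact f7_rchk_4

theorem f7_circ_ok : circChk (fullW f7_rws f7_prels) f7_circT 0 f7_ccert = true := by decide +kernel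
theorem f7_hc_ok : allR (fun c => hcChk f7_rsw f7_hc1T f7_hc2T c) 6 3 0 = true := by decide +kernel
theorem f7_h0 : RData.aord (f7_rd.ent 0 1) = 0 := by decide +kernel

end Cfsg.Agent.H10.Fi22T
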